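import Groth.Agent.SGA4hExtZ.ExtZero
import Groth.Agent.EtFound.Henselian
import Mathlib.Algebra.Category.ModuleCat.Biproducts
import Mathlib.RingTheory.Flat.Basic
import Mathlib.Topology.NoetherianSpace
import Mathlib.AlgebraicGeometry.Noetherian

/-! constructible sheaves with flat stalks mapping onto constructible sheaves of modules -/

universe u

open CategoryTheory CategoryTheory.Limits AlgebraicGeometry Opposite Topology TopologicalSpace

namespace Groth.Agent.SGA4hExtZ

open EtFound hiding IsPiece exists_piece_of_good isConstructible_of_pieces adaptedStrata_of_cover bijective_extZero_sum exists_piece_extZero isConstructible_extZero isConstructible_of_iso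

set_option backward.isDefEq.respectTransparency.types false

variable {Λ : Type (u + 1)} [CommRing Λ] {X : Scheme.{u}}

theorem flat_prod {M N : Type (u + 1)} [AddCommGroup M] [AddCommGroup N] [Module Λ M] [Module Λ N]
    [Module.Flat Λ M] [Module.Flat Λ N] : Module.Flat Λ (M × N) := by
  rw [Module.Flat.iff_rTensor_preserves_injective_linearMap]
  intro P P' _ _ _ _ f hf
  rw [injective_iff_map_eq_zero]
  intro z hz
  have h1 : (LinearMap.fst Λ M N).lTensor P z = 0 := by
    refine Module.Flat.rTensor_preserves_injective_linearMap f hf (Eq.trans ?_ (map_zero _).symm)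
    rw [← LinearMap.comp_apply, LinearMap.rTensor_comp_lTensor, ← LinearMap.lTensor_comp_rTensor,
      LinearMap.comp_apply, hz, map_zero]
  have h2 : (LinearMap.snd Λ M N).lTensor P z = 0 := by
    refine Module.Flat.rTensor_preserves_injective_linearMap f hf (Eq.trans ?_ (map_zero _).symm)
    rw [← LinearMap.comp_apply, LinearMap.rTensor_comp_lTensor, ← LinearMap.lTensor_comp_rTensor,
      LinearMap.comp_apply, hz, map_zero]
  have e : LinearMap.inl Λ M N ∘ₗ LinearMap.fst Λ M N + LinearMap.inr Λ M N ∘ₗ LinearMap.snd Λ M N =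
      LinearMap.id := by ext <;> simp
  have := congrArg (fun g => LinearMap.lTensor P g z) e
  simpa [LinearMap.lTensor_add, LinearMap.lTensor_comp_apply, h1, h2] using this.symm

/-- constructible with flat stalks -/
def IsFlatConstructible (K : EtModW.Mod Λ X) : Prop :=
  EtModW.IsConstructible Λ K ∧
    ∀ (Ω : Type u) [Field Ω] [IsSepClosed Ω] (ξ : Spec (CommRingCat.of Ω) ⟶ X),
      Module.Flat Λ ((EtModW.stalk Λ ξ).obj K)

theorem isFTLocConst_constΛ (U : Scheme.{u}) : EtModW.IsFTLocConst Λ (EtSix.constΛ Λ U) := by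
  refine EtModLC71.isFTLocConst_of_constBy fun x => ⟨EtCoh.top U, x, ModuleCat.of Λ Λ, inferInstance,
    (toSheafify U.smallEtaleTopology ((Functor.const U.Etaleᵒᵖ).obj (ModuleCat.of Λ Λ))).app (op (EtCoh.top U)), rfl,
    fun Ω _ _ ξ z => ?_⟩
  exact toSheafify_const_germ_bijective ξ (ModuleCat.{u + 1} Λ) (ModuleCat.of Λ Λ) (EtCoh.top U) z

theorem isFlatConstructible_extZero {U : Scheme.{u}} (f : U ⟶ X) [AlgebraicGeometry.Etale f] [EtShriek.JCont f]
    [QuasiCompact f] [QuasiSeparated f] :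
    IsFlatConstructible ((EtSix.extZeroMod Λ f).obj (EtSix.constΛ Λ U)) := by
  refine ⟨isConstructible_extZero f (isFTLocConst_constΛ U), fun Ω _ _ ξ => ?_⟩
  classical
  haveI := finite_ptsOver f ξ
  haveI := Fintype.ofFinite (PtsOver f ξ)
  let Φ : (∀ z : PtsOver f ξ, (EtModW.stalk Λ z.1).obj (EtSix.constΛ Λ U)) →ₗ[Λ]
      (EtModW.stalk Λ ξ).obj ((EtSix.extZeroMod Λ f).obj (EtSix.constΛ Λ U)) :=
    ∑ z, (extZeroι f ξ (EtSix.constΛ Λ U) z).hom.comp
      (LinearMap.proj (φ := fun z : PtsOver f ξ => ((EtModW.stalk Λ z.1).obj (EtSix.constΛ Λ U) : Type (u + 1))) z)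
  have hΦ : Function.Bijective Φ := by
    refine Eq.mp (congrArg Function.Bijective (funext fun c => ?_))
      (bijective_extZero_sum f ξ (EtSix.constΛ Λ U) id Function.bijective_id)
    show _ = (∑ z, (extZeroι f ξ (EtSix.constΛ Λ U) z).hom.comp (LinearMap.proj z)) c
    rw [LinearMap.sum_apply]
    rfl
  haveI hflat : ∀ z : PtsOver f ξ, Module.Flat Λ ((EtModW.stalk Λ z.1).obj (EtSix.constΛ Λ U)) := fun z => by
    let u : (Scheme.pointSmallEtale z.1).fiber.obj (EtCoh.top U) :=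
      CategoryTheory.Over.homMk (z.1 : Spec (CommRingCat.of Ω) ⟶ U) (Category.comp_id _)
    let l : Λ →ₗ[Λ] (EtModW.stalk Λ z.1).obj (EtSix.constΛ Λ U) :=
      ((toSheafify U.smallEtaleTopology ((Functor.const U.Etaleᵒᵖ).obj (ModuleCat.of Λ Λ))).app (op (EtCoh.top U)) ≫
        (Scheme.pointSmallEtale z.1).toPresheafFiber (EtCoh.top U) u _).hom
    exact Module.Flat.of_linearEquiv (LinearEquiv.ofBijective l
      (toSheafify_const_germ_bijective z.1 (ModuleCat.{u + 1} Λ) (ModuleCat.of Λ Λ) (EtCoh.top U) u)).symm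
  haveI : Module.Flat Λ (∀ z : PtsOver f ξ, (EtModW.stalk Λ z.1).obj (EtSix.constΛ Λ U)) :=
    Module.Flat.of_linearEquiv (DirectSum.linearEquivFunOnFintype Λ (PtsOver f ξ)
      (fun z => ((EtModW.stalk Λ z.1).obj (EtSix.constΛ Λ U) : Type (u + 1)))).symm
  exact Module.Flat.of_linearEquiv (LinearEquiv.ofBijective Φ hΦ).symm

theorem isConstructible_of_iso {F G : EtModW.Mod Λ X} (e : F ≅ G) (h : EtModW.IsConstructible Λ F) :
    EtModW.IsConstructible Λ G :=
  EtModLC71.isConstructible_of_two h h fun _ g k _ => EtModLC71.isFTLocConst_of_iso ((EtModW.pull Λ g).mapIso e) k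

theorem isFTLocConst_of_isZero {T : Scheme.{u}} {Z : EtModW.Mod Λ T} (h : IsZero Z) :
    EtModW.IsFTLocConst Λ Z := by
  refine EtModLC71.isFTLocConst_of_constBy fun x => ⟨EtCoh.top T, x, ModuleCat.of Λ PUnit.{u + 2}, inferInstance,
    0, rfl, fun Ω _ _ ξ z => ?_⟩
  haveI : Subsingleton (((Scheme.pointSmallEtale ξ).presheafFiber (A := ModuleCat.{u + 1} Λ)).obj Z.obj) :=
    ModuleCat.subsingleton_of_isZero (Functor.map_isZero (EtModW.stalk Λ ξ) h)
  exact ⟨fun _ _ _ => Subsingleton.elim (α := PUnit.{u + 2}) _ _, fun c => ⟨PUnit.unit, Subsingleton.elim _ _⟩⟩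

theorem isFlatConstructible_of_isZero {Z : EtModW.Mod Λ X} (h : IsZero Z) : IsFlatConstructible Z := by
  refine ⟨fun V hV => ?_, fun Ω _ _ ξ => ?_⟩
  · refine EtModLC71.adaptedStrata_of_cover V.2.isLocallyClosed (fun _ : Unit => (V : Set X)) (fun _ => ?_)
      (fun _ => ?_) (fun x hx => Set.mem_iUnion.2 ⟨(), hx⟩)
    · exact ⟨V.toScheme, V.ι, inferInstance, V.range_ι, isFTLocConst_of_isZero (Functor.map_isZero _ h)⟩
    · rw [Subtype.coe_preimage_self]
      exact IsConstructible.univ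
  · haveI : Subsingleton ((EtModW.stalk Λ ξ).obj Z) := ModuleCat.subsingleton_of_isZero (Functor.map_isZero _ h)
    infer_instance

theorem isFlatConstructible_biprod [IsNoetherianRing Λ] {K L : EtModW.Mod Λ X} (hK : IsFlatConstructible K)
    (hL : IsFlatConstructible L) : IsFlatConstructible (K ⊞ L) := by
  refine ⟨EtModLC71.isConstructible_of_extension
    (S := ShortComplex.mk (biprod.inl : K ⟶ K ⊞ L) biprod.snd biprod.inl_snd)
    (ShortComplex.Splitting.ofHasBinaryBiproduct K L).shortExact hK.1 hL.1, fun Ω _ _ ξ => ?_⟩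
  haveI := hK.2 Ω ξ
  haveI := hL.2 Ω ξ
  haveI := preservesBinaryBiproducts_of_preservesBinaryCoproducts (EtModW.stalk Λ ξ)
  haveI : (EtModW.stalk Λ ξ).Additive := Functor.additive_of_preservesBinaryBiproducts _
  haveI : Module.Flat Λ ((EtModW.stalk Λ ξ).obj K × (EtModW.stalk Λ ξ).obj L) := flat_prod
  exact Module.Flat.of_linearEquiv
    (((EtModW.stalk Λ ξ).mapBiprod K L) ≪≫ ModuleCat.biprodIsoProd _ _).toLinearEquiv

/-- the tautological section of `g_! Λ` -/
theorem exists_taut {U : Scheme.{u}} (g : U ⟶ X) [AlgebraicGeometry.Etale g] [EtShriek.JCont g] :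
    ∃ η₀ : ModuleCat.of Λ Λ ⟶
        ((EtSix.extZeroMod Λ g).obj (EtSix.constΛ Λ U)).obj.obj (op ((EtShriek.compEtale g).obj (EtCoh.top U))),
      ∀ (A : EtModW.Mod Λ X) (φ : ModuleCat.of Λ Λ ⟶ A.obj.obj (op ((EtShriek.compEtale g).obj (EtCoh.top U)))),
        ∃ h : (EtSix.extZeroMod Λ g).obj (EtSix.constΛ Λ U) ⟶ A,
          η₀ ≫ h.hom.app (op ((EtShriek.compEtale g).obj (EtCoh.top U))) = φ :=
  ⟨((constantSheafAdj U.smallEtaleTopology (ModuleCat.{u + 1} Λ) (EtFound.topIsTerminal U)).comp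
      (EtSix.extZeroModAdj Λ g)).unit.app (ModuleCat.of Λ Λ),
    fun A φ => ⟨_, (((constantSheafAdj U.smallEtaleTopology (ModuleCat.{u + 1} Λ) (EtFound.topIsTerminal U)).comp
      (EtSix.extZeroModAdj Λ g)).homEquiv_unit _ _ _).symm.trans
      ((((constantSheafAdj U.smallEtaleTopology (ModuleCat.{u + 1} Λ) (EtFound.topIsTerminal U)).comp
      (EtSix.extZeroModAdj Λ g)).homEquiv _ _).apply_symm_apply φ)⟩⟩

theorem apply_one {M N : ModuleCat.{u + 1} Λ} (a : ModuleCat.of Λ Λ ⟶ M) (b : M ⟶ N) (s : N)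
    (h : a ≫ b = ModuleCat.ofHom (LinearMap.toSpanSingleton Λ N s)) : b (a (1 : Λ)) = s := by
  refine (ConcreteCategory.comp_apply a b (1 : Λ)).symm.trans ?_
  rw [h]
  exact one_smul Λ s

/-- a single stalk element of `A` is hit by some `j_! Λ` -/
theorem exists_hit [IsNoetherian X] {A : EtModW.Mod Λ X} {Ω : Type u} [Field Ω] [IsSepClosed Ω]
    (ξ : Spec (CommRingCat.of Ω) ⟶ X) (c : (EtModW.stalk Λ ξ).obj A) :
    ∃ (K : EtModW.Mod Λ X) (h : K ⟶ A), IsFlatConstructible K ∧ ∃ d, (EtModW.stalk Λ ξ).map h d = c := by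
  obtain ⟨W, w, s, rfl⟩ := (Scheme.pointSmallEtale ξ).toPresheafFiber_jointly_surjective c
  obtain ⟨A₀, hA₀, hwA, -⟩ := exists_isAffineOpen_mem_and_subset (U := (⊤ : W.left.Opens)) (x := ptOf w) trivial
  haveI : AlgebraicGeometry.Etale W.hom := W.prop
  haveI : IsAffine A₀.toScheme := hA₀
  let g : A₀.toScheme ⟶ X := A₀.ι ≫ W.hom
  haveI : QuasiCompact g := quasiCompact_of_compactSpace g
  haveI : QuasiSeparated g := QuasiSeparated.of_comp g (terminal.from X)
  haveI : EtShriek.JCont g := jCont g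
  let P : X.Etale := (EtShriek.compEtale g).obj (EtCoh.top A₀.toScheme)
  let r : P ⟶ W := MorphismProperty.Over.homMk A₀.ι (Category.id_comp _).symm
  obtain ⟨v, hv⟩ := exists_lift_open (w.left : Spec (CommRingCat.of Ω) ⟶ W.left) A₀ fun y => by
    rw [Subsingleton.elim (α := Spec (CommRingCat.of Ω)) y default]
    exact hwA
  let u : (Scheme.pointSmallEtale ξ).fiber.obj P :=
    CategoryTheory.Over.homMk (v : Spec (CommRingCat.of Ω) ⟶ A₀.toScheme) (by
      refine Eq.trans ?_ (CategoryTheory.Over.w w)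
      refine (congrArg (v ≫ ·) (Category.id_comp _)).trans ?_
      exact (Category.assoc _ _ _).symm.trans (congrArg (· ≫ W.hom) hv))
  have hu : (Scheme.pointSmallEtale ξ).fiber.map r u = w := CategoryTheory.Over.OverMorphism.ext hv
  obtain ⟨η₀, hη₀⟩ := exists_taut (Λ := Λ) g
  obtain ⟨h, e⟩ := hη₀ A (ModuleCat.ofHom (LinearMap.toSpanSingleton Λ _ (A.obj.map r.op s)))
  have e1 := apply_one η₀ (h.hom.app (op P)) (A.obj.map r.op s) e
  refine ⟨_, h, isFlatConstructible_extZero g, (Scheme.pointSmallEtale ξ).toPresheafFiber P u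
    ((EtSix.extZeroMod Λ g).obj (EtSix.constΛ Λ A₀.toScheme)).obj (η₀ (1 : Λ)), ?_⟩
  refine ((Scheme.pointSmallEtale ξ).toPresheafFiber_naturality_apply h.hom P u (η₀ (1 : Λ))).trans ?_
  rw [e1, (Scheme.pointSmallEtale ξ).toPresheafFiber_w_apply, hu]
  rfl

/-- finitely many maps factor through one -/
theorem exists_joint [IsNoetherianRing Λ] {A : EtModW.Mod Λ X} {ι : Type*} (s : Finset ι)
    (K : ι → EtModW.Mod Λ X) (h : ∀ i, K i ⟶ A) (hK : ∀ i, IsFlatConstructible (K i)) :
    ∃ (L : EtModW.Mod Λ X) (w : L ⟶ A), IsFlatConstructible L ∧ ∀ i ∈ s, ∃ a : K i ⟶ L, a ≫ w = h i := by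
  classical
  induction s using Finset.induction with
  | empty => exact ⟨kernel (𝟙 A), 0, isFlatConstructible_of_isZero (isZero_kernel_of_mono _), by simp⟩
  | @insert i s _ ih =>
    obtain ⟨L, w, hL, hf⟩ := ih
    refine ⟨K i ⊞ L, biprod.desc (h i) w, isFlatConstructible_biprod (hK i) hL, fun j hj => ?_⟩
    rcases Finset.mem_insert.1 hj with rfl | hj
    · exact ⟨biprod.inl, biprod.inl_desc _ _⟩
    · obtain ⟨a, ha⟩ := hf j hj
      exact ⟨a ≫ biprod.inr, by rw [Category.assoc, biprod.inr_desc, ha]⟩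

/-- points where the stalks vanish -/
def zeroLocus (C : EtModW.Mod Λ X) : Set X :=
  {x | ∀ (Ω : Type u) [Field Ω] [IsSepClosed Ω] (ξ : Spec (CommRingCat.of Ω) ⟶ X),
    ξ.base (default : Spec (CommRingCat.of Ω)) = x → Subsingleton ((EtModW.stalk Λ ξ).obj C)}

theorem isConstructible_zeroLocus [IsNoetherian X] {C : EtModW.Mod Λ X} (hC : EtModW.IsConstructible Λ C) :
    Topology.IsConstructible (zeroLocus C) := by
  haveI : NoetherianSpace X := inferInstance
  have hretro : ∀ O : Set X, IsRetrocompact O := fun O K _ _ => NoetherianSpace.isCompact _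
  obtain ⟨n, E, hE, -, hu⟩ :=
    EtModLC71.exists_pieces ((EtModLC71.isConstructible_iff_adaptedStrata X C).1 hC)
  have hz : zeroLocus C = ⋃ k, E k ∩ zeroLocus C := by rw [← Set.iUnion_inter, hu, Set.univ_inter]
  rw [hz]
  refine IsConstructible.iUnion fun k => ?_
  obtain ⟨T, g, hg, hr, hT⟩ := hE k
  have hopen : IsOpen (g.base ⁻¹' zeroLocus C) := by
    refine isOpen_iff_mem_nhds.2 fun t ht => ?_
    obtain ⟨K, _, _, ζ, hζ⟩ := EtModLC71.exists_point t
    obtain ⟨W, w, M, hM, φ, hφ⟩ := EtModLC71.exists_constBy_at hT ζ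
    haveI : Subsingleton ((EtModW.stalk Λ (ζ ≫ g)).obj C) :=
      ht K (ζ ≫ g) ((Scheme.Hom.comp_apply _ _ _).trans (congrArg g.base hζ))
    haveI : Subsingleton (((Scheme.pointSmallEtale ζ).presheafFiber (A := ModuleCat.{u + 1} Λ)).obj ((EtModW.pull Λ g).obj C).obj) :=
      ((EtModLC71.stalkPullMod g ζ).app C).toLinearEquiv.toEquiv.subsingleton
    haveI : Subsingleton M := (hφ K ζ w).1.subsingleton
    haveI : AlgebraicGeometry.Etale W.hom := W.prop
    refine Filter.mem_of_superset (x := W.hom.base '' Set.univ) ?_ ?_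
    · have h := W.hom.isOpenMap.image_mem_nhds (Filter.univ_mem (f := 𝓝 (ptOf w)))
      rwa [hom_ptOf w, hζ] at h
    rintro _ ⟨q, -, rfl⟩ Ω _ _ η hη
    obtain ⟨Ω', _, _, ζ', z', hz'⟩ := exists_algClosed_point W q
    haveI : Subsingleton ((EtModW.stalk Λ (ζ' ≫ g)).obj C) :=
      @Equiv.subsingleton _ _ ((EtModLC71.stalkPullMod g ζ').app C).toLinearEquiv.symm.toEquiv
        (hφ Ω' ζ' z').2.subsingleton
    obtain ⟨e⟩ := EtModLC71.nonempty_stalk_iso (Λ := Λ) η (ζ' ≫ g) (by
      rw [hη, Scheme.Hom.comp_apply, ← hom_ptOf z']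
      exact congrArg g.base (congrArg W.hom.base hz'.symm))
    exact (e.app C).toLinearEquiv.toEquiv.subsingleton
  obtain ⟨O, hO, hO'⟩ := g.isEmbedding.isInducing.isOpen_iff.1 hopen
  have heq : E k ∩ zeroLocus C = E k ∩ O := by
    rw [← hr, ← Set.image_preimage_eq_range_inter, ← Set.image_preimage_eq_range_inter, hO']
  rw [heq, ← hr]
  obtain ⟨O₁, Z₁, hO₁, hZ₁, h1⟩ := g.isLocallyClosed_range
  rw [h1]
  refine (((hretro _).isConstructible hO₁).inter ?_).inter ((hretro _).isConstructible hO)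
  simpa using ((hretro _).isConstructible hZ₁.isOpen_compl).compl

/-- every constructible quotient of `A` is covered by a constructible sheaf with flat stalks mapping to `A` -/
theorem exists_cover [IsNoetherian X] [IsNoetherianRing Λ] {A B : EtModW.Mod Λ X} (v : A ⟶ B) [Epi v]
    (hB : EtModW.IsConstructible Λ B) :
    ∃ (K : EtModW.Mod Λ X) (w : K ⟶ A), IsFlatConstructible K ∧ Epi (w ≫ v) := by
  classical
  have key : ∀ x : X, ∃ (L : EtModW.Mod Λ X) (w : L ⟶ A), IsFlatConstructible L ∧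
      x ∈ zeroLocus (cokernel (w ≫ v)) := fun x => by
    obtain ⟨Ω, _, _, ξ, hξ⟩ := exists_geomPoint x
    obtain ⟨s, hs⟩ := (EtModLC71.finite_stalk hB ξ).fg_top
    have hsurj := (ModuleCat.epi_iff_surjective ((EtModW.stalk Λ ξ).map v)).1 inferInstance
    choose a ha using hsurj
    choose K h hK d hd using fun i : ↥s => exists_hit ξ (a i.1)
    obtain ⟨L, w, hL, hw⟩ := exists_joint Finset.univ K h hK
    refine ⟨L, w, hL, fun Ω' _ _ η hη => ?_⟩
    have hsub : Subsingleton ((EtModW.stalk Λ ξ).obj (cokernel (w ≫ v))) := by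
      refine subsingleton_of_forall_eq 0 fun c => ?_
      obtain ⟨b, rfl⟩ := (ModuleCat.epi_iff_surjective ((EtModW.stalk Λ ξ).map (cokernel.π (w ≫ v)))).1 inferInstance c
      have hb : b ∈ Submodule.span Λ (s : Set _) := hs.symm ▸ Submodule.mem_top
      refine LinearMap.mem_ker.1 ((Submodule.span_le.2 ?_) hb)
      intro i hi
      obtain ⟨α, hα⟩ := hw ⟨i, hi⟩ (Finset.mem_univ _)
      refine LinearMap.mem_ker.2 ?_
      have e : i = (EtModW.stalk Λ ξ).map (α ≫ w ≫ v) (d ⟨i, hi⟩) := by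
        rw [← Category.assoc, hα, Functor.map_comp, ConcreteCategory.comp_apply, hd]
        exact (ha i).symm
      rw [e]
      show ((EtModW.stalk Λ ξ).map (α ≫ w ≫ v) ≫ (EtModW.stalk Λ ξ).map (cokernel.π (w ≫ v))) (d ⟨i, hi⟩) = 0
      rw [← Functor.map_comp]
      simp only [Category.assoc]
      rw [show w ≫ v ≫ cokernel.π (w ≫ v) = 0 by rw [← Category.assoc, cokernel.condition], comp_zero,
        Functor.map_zero]
      rfl
    obtain ⟨e⟩ := EtModLC71.nonempty_stalk_iso (Λ := Λ) η ξ (hη.trans hξ.symm)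
    exact (e.app _).toLinearEquiv.toEquiv.subsingleton
  choose L w hL hx using key
  haveI : NoetherianSpace X := inferInstance
  haveI : PrespectralSpace X := inferInstance
  obtain ⟨t, ht⟩ := exists_finite_cover (fun x : X => zeroLocus (cokernel (w x ≫ v)))
    (fun x => isConstructible_zeroLocus (EtModLC71.isConstructible_cokernel _ (hL x).1 hB)) fun x => ⟨x, hx x⟩
  obtain ⟨K, q, hK, hq⟩ := exists_joint t L w hL
  refine ⟨K, q, hK, (EtModLC71.epi_iff_stalks _).2 fun Ω _ _ η c => ?_⟩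
  obtain ⟨x, hxt, hxη⟩ := ht (η.base (default : Spec (CommRingCat.of Ω)))
  obtain ⟨α, hα⟩ := hq x hxt
  haveI := hxη Ω η rfl
  have hS := (ShortComplex.exact_of_g_is_cokernel (ShortComplex.mk (w x ≫ v) (cokernel.π _) (cokernel.condition _))
    (cokernelIsCokernel _))
  obtain ⟨d, hd⟩ := EtModLC71.stalk_exact hS η c (Subsingleton.elim _ _)
  refine ⟨(EtModW.stalk Λ η).map α d, ?_⟩
  rw [← ConcreteCategory.comp_apply, ← Functor.map_comp, ← Category.assoc, hα]
  exact hd

end Groth.Agent.SGA4hExtZ
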