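import Mathlib.Algebra.Homology.Refinements
import Mathlib.Algebra.Homology.Embedding.CochainComplex
import Mathlib.Algebra.Homology.QuasiIso
import Mathlib.CategoryTheory.Abelian.Refinements

/-! left resolutions of complexes with bounded above homology in a class -/

universe v u

open CategoryTheory Category Limits HomologicalComplex

namespace Groth.Agent.SGA4hExtZ.LeftRes

variable {A : Type u} [Category.{v} A] [Abelian A]

/-- a class `C` of objects and a class `P` of objects covering it -/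
structure Data (A : Type u) [Category.{v} A] [Abelian A] where
  P : A → Prop
  C : A → Prop
  le : ∀ {X : A}, P X → C X
  zero : ∀ {X : A}, IsZero X → P X
  sum : ∀ {X Y : A}, P X → P Y → P (X ⊞ Y)
  iso : ∀ {X Y : A}, (X ≅ Y) → P X → P Y
  isoC : ∀ {X Y : A}, (X ≅ Y) → C X → C Y
  ker : ∀ {X Y : A} (f : X ⟶ Y), C X → C Y → C (kernel f)
  cover : ∀ {X B : A} (v : X ⟶ B), Epi v → C B → ∃ (Q : A) (w : Q ⟶ X), P Q ∧ Epi (w ≫ v)

variable (D : Data A) (K : CochainComplex A ℤ)

/-- the state of the construction in degree `n` -/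
structure Stage (n : ℤ) where
  Y : A
  Z : A
  ι : Z ⟶ Y
  f : Y ⟶ K.X n
  zc : Z ⟶ K.cycles n
  fac : zc ≫ K.iCycles n = ι ≫ f
  mono_ι : Mono ι
  epi_h : Epi (zc ≫ K.homologyπ n)
  memY : D.P Y
  memZ : D.C Z

variable {D K}

section step

variable {n : ℤ} (s : Stage D K n) (n' : ℤ)

/-- the boundaries to be covered -/
noncomputable abbrev bdry : A := kernel (s.zc ≫ K.homologyπ n)

/-- the sources of the boundaries -/
noncomputable abbrev src : A := pullback (K.toCycles n' n) (kernel.ι (s.zc ≫ K.homologyπ n) ≫ s.zc)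

variable (h : n' + 1 = n)

include h in
lemma epi_src_snd : Epi (pullback.snd (K.toCycles n' n) (kernel.ι (s.zc ≫ K.homologyπ n) ≫ s.zc)) := by
  rw [epi_iff_surjective_up_to_refinements]
  intro T x
  have hE : (ShortComplex.mk (K.toCycles n' n) (K.homologyπ n) (K.toCycles_comp_homologyπ n' n)).Exact :=
    ShortComplex.exact_of_g_is_cokernel _ (K.homologyIsCokernel n' n (by simp; omega))
  obtain ⟨T', π, hπ, y, hy⟩ := hE.exact_up_to_refinements (x ≫ kernel.ι (s.zc ≫ K.homologyπ n) ≫ s.zc)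
    (by simp [kernel.condition])
  exact ⟨T', π, hπ, pullback.lift y (π ≫ x) (by simpa using hy.symm), (pullback.lift_snd _ _ _).symm⟩

variable (hK : ∀ i, D.C (K.homology i))

include h hK in
lemma exists_next : ∃ (s' : Stage D K n') (d : s'.Y ⟶ s.Y), d ≫ s.f = s'.f ≫ K.d n' n ∧
    (∀ {T : A} (x : T ⟶ s'.Y), x ≫ d = 0 → ∃ t : T ⟶ s'.Z, t ≫ s'.ι = x) ∧ s'.ι ≫ d = 0 ∧
    ∃ d' : s'.Y ⟶ bdry s, Epi d' ∧ d = d' ≫ kernel.ι (s.zc ≫ K.homologyπ n) ≫ s.ι := by
  have hB : D.C (bdry s) := D.ker _ s.memZ (hK n)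
  haveI := epi_src_snd s n' h
  obtain ⟨K₁, w₁, hP₁, he₁⟩ := D.cover
    (pullback.snd (K.toCycles n' n) (kernel.ι (s.zc ≫ K.homologyπ n) ≫ s.zc)) inferInstance hB
  obtain ⟨K₂, w₂, hP₂, he₂⟩ := D.cover (K.homologyπ n') inferInstance (hK n')
  let d' : K₁ ⊞ K₂ ⟶ bdry s := biprod.desc (w₁ ≫ pullback.snd _ _) 0
  let f' : K₁ ⊞ K₂ ⟶ K.X n' := biprod.desc (w₁ ≫ pullback.fst _ _) (w₂ ≫ K.iCycles n')
  let k := kernel.ι (s.zc ≫ K.homologyπ n)
  have hcomm : (d' ≫ k ≫ s.ι) ≫ s.f = f' ≫ K.d n' n := by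
    apply biprod.hom_ext'
    · simp only [d', f', biprod.inl_desc_assoc, assoc]
      rw [← s.fac, ← assoc k s.zc (K.iCycles n), ← pullback.condition_assoc, K.toCycles_i]
    · simp [d', f']
  have hz : (kernel.ι d' ≫ f') ≫ K.d n' n = 0 := by
    rw [assoc, ← hcomm]
    simp
  let zc' : kernel d' ⟶ K.cycles n' := K.liftCycles (kernel.ι d' ≫ f') n (by simp; omega) hz
  have hepi : Epi (zc' ≫ K.homologyπ n') := by
    have e : kernel.lift d' biprod.inr (by simp [d']) ≫ zc' = w₂ := by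
      rw [← cancel_mono (K.iCycles n')]
      simp [zc', f']
    exact @epi_of_epi _ _ _ _ _ (kernel.lift d' biprod.inr (by simp [d'])) (zc' ≫ K.homologyπ n')
      (by rw [← assoc, e]; exact he₂)
  haveI := s.mono_ι
  refine ⟨⟨K₁ ⊞ K₂, kernel d', kernel.ι d', f', zc', K.liftCycles_i _ _ _ _, inferInstance, hepi,
    D.sum hP₁ hP₂, D.ker d' (D.le (D.sum hP₁ hP₂)) hB⟩, d' ≫ k ≫ s.ι, hcomm, fun x hx => ?_, ?_, d', ?_, rfl⟩
  · refine ⟨kernel.lift d' x ?_, kernel.lift_ι _ _ _⟩
    rw [← cancel_mono (k ≫ s.ι), zero_comp, assoc]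
    exact hx
  · simp
  · exact @epi_of_epi _ _ _ _ _ biprod.inl d' (by simpa [d'] using he₁)

end step

variable (D K) (hK : ∀ i, D.C (K.homology i)) (b : ℤ)

/-- the first stage -/
noncomputable def base (hb : IsZero (K.X b)) : Stage D K (b - (0 : ℕ)) :=
  { Y := K.X b
    Z := K.X b
    ι := 𝟙 _
    f := 0
    zc := 0
    fac := by simp
    mono_ι := inferInstance
    epi_h := ⟨fun _ _ _ => (ShortComplex.exact_iff_isZero_homology _).1
      (ShortComplex.exact_of_isZero_X₂ (K.sc (b - (0 : ℕ))) (by simpa using hb)) |>.eq_of_src _ _⟩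
    memY := D.zero hb
    memZ := D.le (D.zero hb) }

variable (hb : IsZero (K.X b))

/-- the stages -/
noncomputable def st : ∀ k : ℕ, Stage D K (b - k)
  | 0 => base D K b hb
  | k + 1 => (exists_next (st k) (b - (k + 1 : ℕ)) (by push_cast; omega) hK).choose

/-- the differentials -/
noncomputable def stepD (k : ℕ) : (st D K hK b hb (k + 1)).Y ⟶ (st D K hK b hb k).Y :=
  (exists_next (st D K hK b hb k) (b - (k + 1 : ℕ)) (by push_cast; omega) hK).choose_spec.choose

lemma stepD_spec (k : ℕ) :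
    stepD D K hK b hb k ≫ (st D K hK b hb k).f = (st D K hK b hb (k + 1)).f ≫ K.d (b - (k + 1 : ℕ)) (b - k) ∧
    (∀ {T : A} (x : T ⟶ (st D K hK b hb (k + 1)).Y), x ≫ stepD D K hK b hb k = 0 →
      ∃ t : T ⟶ (st D K hK b hb (k + 1)).Z, t ≫ (st D K hK b hb (k + 1)).ι = x) ∧
    (st D K hK b hb (k + 1)).ι ≫ stepD D K hK b hb k = 0 ∧
    ∃ d' : (st D K hK b hb (k + 1)).Y ⟶ bdry (st D K hK b hb k), Epi d' ∧ stepD D K hK b hb k =
      d' ≫ kernel.ι ((st D K hK b hb k).zc ≫ K.homologyπ (b - k)) ≫ (st D K hK b hb k).ι :=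
  (exists_next (st D K hK b hb k) (b - (k + 1 : ℕ)) (by push_cast; omega) hK).choose_spec.choose_spec

lemma stepD_comp (k : ℕ) : stepD D K hK b hb (k + 1) ≫ stepD D K hK b hb k = 0 := by
  obtain ⟨d', -, hd⟩ := (stepD_spec D K hK b hb (k + 1)).2.2.2
  rw [hd]
  simp [(stepD_spec D K hK b hb k).2.2.1]

/-- the resolution, indexed by natural numbers -/
noncomputable def Lnat : ChainComplex A ℕ :=
  ChainComplex.of (fun k => (st D K hK b hb k).Y) (stepD D K hK b hb) (stepD_comp D K hK b hb)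

/-- the resolution -/
noncomputable def L : CochainComplex A ℤ :=
  (Lnat D K hK b hb).extend (ComplexShape.embeddingUpIntLE b)

instance : (L D K hK b hb).IsStrictlyLE b :=
  inferInstanceAs (HomologicalComplex.IsStrictlySupported
    ((Lnat D K hK b hb).extend (ComplexShape.embeddingUpIntLE b)) (ComplexShape.embeddingUpIntLE b))

/-- the objects of the resolution -/
noncomputable def xIso (k : ℕ) (n : ℤ) (h : b - k = n) : (L D K hK b hb).X n ≅ (st D K hK b hb k).Y :=
  (Lnat D K hK b hb).extendXIso (ComplexShape.embeddingUpIntLE b) h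

lemma L_d (k : ℕ) (n n' : ℤ) (h : b - (k + 1 : ℕ) = n) (h' : b - k = n') :
    (L D K hK b hb).d n n' = (xIso D K hK b hb (k + 1) n h).hom ≫
      stepD D K hK b hb k ≫ (xIso D K hK b hb k n' h').inv := by
  rw [show stepD D K hK b hb k = (Lnat D K hK b hb).d (k + 1) k by simp [Lnat]]
  exact HomologicalComplex.extend_d_eq (Lnat D K hK b hb) (ComplexShape.embeddingUpIntLE b) h h'

open Classical in
/-- the components of the comparison map -/
noncomputable def αf (n : ℤ) : (L D K hK b hb).X n ⟶ K.X n :=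
  if h : ∃ k : ℕ, b - k = n then
    (xIso D K hK b hb h.choose n h.choose_spec).hom ≫ (st D K hK b hb h.choose).f ≫
      eqToHom (by rw [h.choose_spec])
  else 0

lemma αf_eq (k : ℕ) : αf D K hK b hb (b - k) =
    (xIso D K hK b hb k (b - k) rfl).hom ≫ (st D K hK b hb k).f := by
  have h : ∃ k' : ℕ, b - k' = b - k := ⟨k, rfl⟩
  rw [αf, dif_pos h]
  have : ∀ (k' : ℕ) (hk' : b - k' = b - (k : ℤ)), (xIso D K hK b hb k' (b - k) hk').hom ≫
      (st D K hK b hb k').f ≫ eqToHom (by rw [hk']) =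
      (xIso D K hK b hb k (b - k) rfl).hom ≫ (st D K hK b hb k).f := by
    intro k' hk'
    obtain rfl : k' = k := by omega
    simp
  exact this _ h.choose_spec

variable (hb' : ∀ i, b ≤ i → IsZero (K.X i))

/-- the comparison map -/
noncomputable def α : L D K hK b hb ⟶ K where
  f := αf D K hK b hb
  comm' i j hij := by
    obtain rfl : i + 1 = j := hij
    by_cases h : i + 1 ≤ b
    · obtain ⟨k, hk⟩ : ∃ k : ℕ, b - (k + 1 : ℕ) = i := ⟨(b - i - 1).toNat, by omega⟩
      subst hk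
      obtain ⟨j, hj⟩ : ∃ j : ℤ, b - ((k + 1 : ℕ) : ℤ) + 1 = j := ⟨_, rfl⟩
      rw [hj]
      obtain rfl : b - (k : ℤ) = j := by omega
      rw [αf_eq, αf_eq, L_d D K hK b hb k (b - (k + 1 : ℕ)) (b - k) rfl rfl]
      simp [(stepD_spec D K hK b hb k).1]
    · exact (hb' (i + 1) (by omega)).eq_of_tgt _ _

include hb' in
lemma quasiIsoAt_α (n : ℤ) : QuasiIsoAt (α D K hK b hb hb') n := by
  by_cases h : n ≤ b
  swap
  · rw [quasiIsoAt_iff_exactAt]
    · exact ShortComplex.exact_of_isZero_X₂ (K.sc n) (hb' n (by omega))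
    · exact ShortComplex.exact_of_isZero_X₂ ((L D K hK b hb).sc n)
        ((L D K hK b hb).isZero_of_isStrictlyLE b n (by omega))
  obtain ⟨k, rfl⟩ : ∃ k : ℕ, b - k = n := ⟨(b - n).toNat, by omega⟩
  let s := st D K hK b hb k
  let e := xIso D K hK b hb k (b - k) rfl
  have hn1 : ∀ i : ℤ, i = b - (k + 1 : ℕ) → i + 1 = b - k := fun i hi => by push_cast at hi; omega
  -- cycles of the resolution
  have hcyc : ∀ {T : A} (x : T ⟶ (L D K hK b hb).X (b - k)) (i : ℤ), i = b - k + 1 →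
      x ≫ (L D K hK b hb).d (b - k) i = 0 → ∃ t : T ⟶ s.Z, t ≫ s.ι = x ≫ e.hom := by
    intro T x i hi hx
    cases k with
    | zero => exact ⟨x ≫ e.hom, comp_id _⟩
    | succ k =>
      obtain rfl : i = b - k := by push_cast at hi; omega
      rw [L_d D K hK b hb k _ _ rfl rfl] at hx
      obtain ⟨t, ht⟩ := (stepD_spec D K hK b hb k).2.1 (x ≫ e.hom) (by
        rw [← cancel_mono (xIso D K hK b hb k (b - k) rfl).inv, zero_comp]
        simpa [e] using hx)
      exact ⟨t, ht⟩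
  have hι : ∀ i : ℤ, i = b - k + 1 → (s.ι ≫ e.inv) ≫ (L D K hK b hb).d (b - k) i = 0 := by
    intro i hi
    cases k with
    | zero => exact ((L D K hK b hb).isZero_of_isStrictlyLE b i (by simp at hi; omega)).eq_of_tgt _ _
    | succ k =>
      obtain rfl : i = b - k := by push_cast at hi; omega
      rw [L_d D K hK b hb k _ _ rfl rfl]
      simp [e, s, reassoc_of% (stepD_spec D K hK b hb k).2.2.1]
  rw [quasiIsoAt_iff_isIso_homologyMap]
  have : Mono (homologyMap (α D K hK b hb hb') (b - k)) := by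
    rw [mono_homologyMap_iff_up_to_refinements _ (b - (k + 1 : ℕ)) (b - k) (b - k + 1)
      (by simp; omega) (by simp)]
    intro T x hx y hy
    obtain ⟨t, ht⟩ := hcyc x _ rfl hx
    have h1 : t ≫ s.zc = y ≫ K.toCycles (b - (k + 1 : ℕ)) (b - k) := by
      rw [← cancel_mono (K.iCycles _), assoc, assoc, K.toCycles_i, s.fac, ← assoc, ht]
      simpa [α, αf_eq, e, s] using hy
    have h2 : t ≫ s.zc ≫ K.homologyπ (b - k) = 0 := by
      rw [reassoc_of% h1, K.toCycles_comp_homologyπ, comp_zero]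
    obtain ⟨d', hd', hd⟩ := (stepD_spec D K hK b hb k).2.2.2
    obtain ⟨T', π, hπ, z, hz⟩ := surjective_up_to_refinements_of_epi d' (kernel.lift _ t h2)
    refine ⟨T', π, hπ, z ≫ (xIso D K hK b hb (k + 1) _ rfl).inv, ?_⟩
    rw [L_d D K hK b hb k _ _ rfl rfl, hd, ← cancel_mono e.hom]
    simp only [assoc, Iso.inv_hom_id, comp_id, Iso.inv_hom_id_assoc, e]
    rw [← reassoc_of% hz, kernel.lift_ι_assoc, ht]
  have : Epi (homologyMap (α D K hK b hb hb') (b - k)) := by
    rw [epi_homologyMap_iff_up_to_refinements _ (b - (k + 1 : ℕ)) (b - k) (b - k + 1)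
      (by simp; omega) (by simp)]
    intro T y hy
    haveI := s.epi_h
    let yc := K.liftCycles y (b - k + 1) (by simp) hy
    obtain ⟨T', π, hπ, t, ht⟩ := surjective_up_to_refinements_of_epi (s.zc ≫ K.homologyπ _)
      (yc ≫ K.homologyπ _)
    have hE : (ShortComplex.mk (K.toCycles (b - (k + 1 : ℕ)) (b - k)) (K.homologyπ _)
        (K.toCycles_comp_homologyπ _ _)).Exact :=
      ShortComplex.exact_of_g_is_cokernel _ (K.homologyIsCokernel _ _ (by simp; omega))
    obtain ⟨T'', ρ, hρ, z, hz⟩ := hE.exact_up_to_refinements (π ≫ yc - t ≫ s.zc) (by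
      simp only [Preadditive.sub_comp, assoc, ht, sub_self])
    refine ⟨T'', ρ ≫ π, inferInstance, (ρ ≫ t) ≫ s.ι ≫ e.inv, ?_, z, ?_⟩
    · rw [assoc, hι _ rfl, comp_zero]
    · have := congrArg (· ≫ K.iCycles _) hz
      simp only [assoc, Preadditive.sub_comp, Preadditive.comp_sub, K.toCycles_i, s.fac, yc,
        K.liftCycles_i, sub_eq_iff_eq_add] at this
      simp only [assoc, α, αf_eq, e, Iso.inv_hom_id_assoc, s] at this ⊢
      rw [this]
      abel
  exact isIso_of_mono_of_epi _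

variable {D K}

include hK in
/-- complexes with homology in `C`, vanishing in large degrees, are quasi-isomorphic to bounded
above complexes with terms in `P` -/
theorem exists_quasiIso (m : ℤ) (hm : ∀ i, m ≤ i → IsZero (K.homology i)) :
    ∃ (Q : CochainComplex A ℤ) (φ : Q ⟶ K), QuasiIso φ ∧ (∀ i, m + 1 < i → IsZero (Q.X i)) ∧
      ∀ i, D.P (Q.X i) := by
  haveI : K.IsLE m := by
    rw [CochainComplex.isLE_iff]
    intro i hi
    exact (K.exactAt_iff_isZero_homology i).2 (hm i (by omega))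
  let K' := K.truncLE m
  haveI : QuasiIso (K.ιTruncLE m) := inferInstance
  have hK' : ∀ i, D.C (K'.homology i) := fun i => by
    obtain ⟨E⟩ : Nonempty (K.homology i ≅ K'.homology i) :=
      ⟨(asIso (HomologicalComplex.homologyMap (K.ιTruncLE m) i)).symm⟩
    exact D.isoC E (hK i)
  have hz : ∀ i, m + 1 ≤ i → IsZero (K'.X i) := fun i hi => K'.isZero_of_isStrictlyLE m i (by omega)
  haveI : QuasiIso (α D K' hK' (m + 1) (hz _ le_rfl) hz) := ⟨quasiIsoAt_α D K' hK' _ _ hz⟩
  refine ⟨_, α D K' hK' (m + 1) (hz _ le_rfl) hz ≫ K.ιTruncLE m, inferInstance,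
    fun i hi => (L D K' hK' _ _).isZero_of_isStrictlyLE (m + 1) i hi, fun i => ?_⟩
  by_cases h : i ≤ m + 1
  · obtain ⟨k, rfl⟩ : ∃ k : ℕ, m + 1 - k = i := ⟨(m + 1 - i).toNat, by omega⟩
    exact D.iso (xIso D K' hK' _ _ k _ rfl).symm (st D K' hK' _ _ k).memY
  · exact D.zero ((L D K' hK' _ _).isZero_of_isStrictlyLE (m + 1) i (by omega))

end Groth.Agent.SGA4hExtZ.LeftRes
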